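import Cfsg.Agent.EqLemmas
import Cfsg.Agent.Lib.SubThree.SDCore
import Cfsg.Agent.Lib.GL23Ident.Models

/-!
# The endgame of the recognition of `M₁₁` from its 3-local (S3717; owner: helper84)

* `isoM11_of_sd` : semidihedral Sylow 2-subgroups, a self-centralising four group, `|G|₃ = 9`
* `sylow_sd_of_centralizer` : one class of involutions, `|C(a⁴)| = 48`, `⟨a, b⟩` semidihedral of order 16
* `isoM11_of_order48` : both together
-/

set_option autoImplicit false
set_option linter.unusedSectionVars false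

namespace Cfsg.Agent.MElevenThree

open Subgroup

variable {G : Type*} [Group G] [Finite G]

theorem isoM11_of_sd [IsSimpleGroup G] (hna : ¬ IsMulCommutative G) (M : Sylow 3 G)
    (hM9 : Nat.card ↥(M : Subgroup G) = 9) {S : Sylow 2 G}
    (hS : Cfsg.IsQuasiDihedral (S : Subgroup G)) {V : Subgroup G} (hV : IsKleinFour V)
    (hC : centralizer (V : Set G) = V) : Cfsg.Spor.IsoM11 G := by
  rcases SubThree.sd_core hna hS hV hC with ⟨⟨e⟩⟩ | h
  · exfalso
    haveI := Fact.mk Nat.prime_three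
    obtain ⟨e'⟩ := GL23Ident.Linear.nonempty_psl
    have hcard : Nat.card G = 5616 :=
      ((Nat.card_congr e.toEquiv).trans (Nat.card_congr e'.toEquiv).symm).trans GL23Ident.Linear.natCard_sl
    obtain ⟨x, hx⟩ := Sylow.exists_subgroup_card_pow_prime (G := G) 3 (n := 3) (by rw [hcard]; norm_num)
    obtain ⟨P, hP⟩ := (IsPGroup.of_card (n := 3) hx : IsPGroup 3 x).exists_le_sylow
    have h1 := Nat.le_of_dvd Nat.card_pos (Subgroup.card_dvd_of_le hP)
    have h2 : Nat.card ↥(P : Subgroup G) = 9 := (Nat.card_congr (P.equiv M).toEquiv).trans hM9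
    rw [hx, h2] at h1
    norm_num at h1
  · exact h

theorem sylow_sd_of_centralizer (hone : ∀ x y : G, orderOf x = 2 → orderOf y = 2 → IsConj x y)
    {a b : G} (ha : orderOf a = 8) (hb : orderOf b = 2) (hab : b * a * b⁻¹ = a ^ 3)
    (h48 : Nat.card (centralizer ({a ^ 4} : Set G)) = 48) :
    ∃ S : Sylow 2 G, Cfsg.IsQuasiDihedral (S : Subgroup G) := by
  haveI := Fact.mk Nat.prime_two
  -- `⟨a, b⟩` is a 2-group
  have hnorm : zpowers b ≤ normalizer (zpowers a : Set G) := by
    rw [zpowers_le]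
    refine Subgroup.mem_normalizer_iff.2 fun x => ?_
    have hbb : b * b = 1 := by rw [← pow_two, ← hb, pow_orderOf_eq_one]
    have hbi : b⁻¹ = b := inv_eq_of_mul_eq_one_right hbb
    have hfwd : ∀ y ∈ zpowers a, b * y * b⁻¹ ∈ zpowers a := by
      rintro y ⟨k, rfl⟩
      refine ⟨3 * k, ?_⟩
      show a ^ (3 * k) = b * a ^ k * b⁻¹
      rw [zpow_mul, show a ^ (3 : ℤ) = a ^ 3 from zpow_natCast a 3, ← hab, conj_zpow]
    refine ⟨fun hx => hfwd x hx, fun hx => ?_⟩
    have h := hfwd _ hx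
    rwa [show b * (b * x * b⁻¹) * b⁻¹ = (b * b) * x * (b * b)⁻¹ by group, hbb, one_mul, inv_one,
      mul_one] at h
  have hpa : IsPGroup 2 (zpowers a) := IsPGroup.of_card (n := 3) (by rw [Nat.card_zpowers, ha]; norm_num)
  have hpb : IsPGroup 2 (zpowers b) := IsPGroup.of_card (n := 1) (by rw [Nat.card_zpowers, hb]; norm_num)
  have hK : IsPGroup 2 (zpowers b ⊔ zpowers a : Subgroup G) :=
    IsPGroup.to_sup_of_normal_right' hpb hpa hnorm
  obtain ⟨T, hT⟩ := hK.exists_le_sylow
  have hbT : b ∈ (T : Subgroup G) := hT (mem_sup_left (mem_zpowers b))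
  have haT : a ∈ (T : Subgroup G) := hT (mem_sup_right (mem_zpowers a))
  -- the order of `T`
  have h16 : 16 ∣ Nat.card ↥(T : Subgroup G) := by
    have h8 : zpowers a ≤ (T : Subgroup G) := by rwa [zpowers_le]
    have hd : 8 ∣ Nat.card ↥(T : Subgroup G) := by
      have := Subgroup.card_dvd_of_le h8
      rwa [Nat.card_zpowers, ha] at this
    obtain ⟨n, hn⟩ := IsPGroup.iff_card.1 T.isPGroup'
    rw [hn] at hd ⊢
    have h4 : 4 ≤ n := by
      by_contra h
      have hle : Nat.card ↥(T : Subgroup G) ≤ Nat.card (zpowers a) := by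
        rw [hn, Nat.card_zpowers, ha]
        exact le_trans (Nat.pow_le_pow_right (by norm_num) (by omega : n ≤ 3)) (by norm_num)
      have e := Subgroup.eq_of_le_of_card_ge h8 hle
      rw [← e] at hbT
      obtain ⟨k, hk⟩ := hbT
      have : b * a * b⁻¹ = a := by rw [← hk]; group
      rw [hab] at this
      have h2 : a ^ 2 = 1 := by
        have e : a ^ 3 = a ^ 2 * a := pow_succ a 2
        rwa [e, mul_eq_right] at this
      have := orderOf_le_of_pow_eq_one (by norm_num) h2
      omega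
    exact pow_dvd_pow 2 h4
  have hle : Nat.card ↥(T : Subgroup G) ∣ 16 := by
    haveI : Nontrivial ↥(T : Subgroup G) := Finite.one_lt_card_iff_nontrivial.1 (by
      have := Nat.le_of_dvd Nat.card_pos h16; omega)
    haveI := T.isPGroup'.center_nontrivial
    obtain ⟨k, hk0, hk⟩ :=
      (T.isPGroup'.to_subgroup (center ↥(T : Subgroup G))).nontrivial_iff_card.mp inferInstance
    obtain ⟨u, hu⟩ := exists_prime_orderOf_dvd_card' (G := center ↥(T : Subgroup G)) 2
      (by rw [hk]; exact dvd_pow_self 2 hk0.ne')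
    have hc : orderOf ((u : ↥(T : Subgroup G)) : G) = 2 := by rw [orderOf_coe, orderOf_coe, hu]
    have ht : orderOf (a ^ 4) = 2 := by rw [orderOf_pow' a (by norm_num), ha]; norm_num
    obtain ⟨g, hg⟩ := isConj_iff.1 (hone _ _ ht hc)
    have hsub : (T : Subgroup G).map (MulAut.conj g⁻¹).toMonoidHom ≤ centralizer ({a ^ 4} : Set G) := by
      rintro _ ⟨x, hx, rfl⟩
      rw [mem_centralizer_singleton_iff]
      have hxu : x * ((u : ↥(T : Subgroup G)) : G) = ((u : ↥(T : Subgroup G)) : G) * x :=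
        congrArg Subtype.val (mem_center_iff.1 u.2 ⟨x, hx⟩)
      rw [← hg] at hxu
      simp only [MulEquiv.coe_toMonoidHom, MulAut.conj_apply, inv_inv]
      calc g⁻¹ * x * g * a ^ 4 = g⁻¹ * (x * (g * a ^ 4 * g⁻¹)) * g := by group
        _ = g⁻¹ * (g * a ^ 4 * g⁻¹ * x) * g := by rw [hxu]
        _ = a ^ 4 * (g⁻¹ * x * g) := by group
    have h1 := Subgroup.card_dvd_of_le hsub
    rw [Subgroup.card_map_of_injective (MulAut.conj g⁻¹).injective, h48] at h1
    obtain ⟨n, hn⟩ := IsPGroup.iff_card.1 T.isPGroup'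
    rw [hn] at h1 ⊢
    exact (Nat.Coprime.pow_left n (by norm_num : Nat.Coprime 2 3)).dvd_of_dvd_mul_left
      (show 2 ^ n ∣ 3 * 16 by simpa using h1)
  refine ⟨T, 3, le_rfl, Nat.dvd_antisymm hle h16, ⟨a, haT⟩, ⟨b, hbT⟩, ?_, ?_, ?_⟩
  · rw [Subgroup.orderOf_mk, ha]; norm_num
  · rw [Subgroup.orderOf_mk, hb]
  · exact Subtype.ext (by simpa using hab)

theorem isoM11_of_order48 [IsSimpleGroup G] (hna : ¬ IsMulCommutative G) (M : Sylow 3 G)
    (hM9 : Nat.card ↥(M : Subgroup G) = 9)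
    (hone : ∀ x y : G, orderOf x = 2 → orderOf y = 2 → IsConj x y)
    {a b : G} (ha : orderOf a = 8) (hb : orderOf b = 2) (hab : b * a * b⁻¹ = a ^ 3)
    (h48 : Nat.card (centralizer ({a ^ 4} : Set G)) = 48)
    {V : Subgroup G} (hV : IsKleinFour V) (hC : centralizer (V : Set G) = V) : Cfsg.Spor.IsoM11 G := by
  obtain ⟨S, hS⟩ := sylow_sd_of_centralizer hone ha hb hab h48
  exact isoM11_of_sd hna M hM9 hS hV hC

end Cfsg.Agent.MElevenThree
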